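import Mathlib
import Cfsg.Agent.J2Type.SylowSeven
import Cfsg.Agent.Lib.DivFast
import Cfsg.Agent.FastGrp
import Cfsg.Agent.Prune
set_option linter.all false
prune_inst 0x7f00000000000000000000000000000000000000000000000000000000000000000000000000000000000000000000000000000000000000000000000000000000000000000000000000000000000000003fffffffffffffffffffffffffffbeffbdffffffff
open scoped Cfsg.Agent.FastGrp

/-!
# Projections onto complements; elements of order `13` in groups of order `29120` (helper496, for helper857, S5936)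
-/

set_option autoImplicit false
set_option linter.unusedSectionVars false

namespace Cfsg.Agent.H496.TwEight.Proj

open Subgroup

variable {G : Type*} [Group G]

/-- the projection onto a complement of a normal subgroup -/
theorem exists_proj {C L N : Subgroup G} (hL : L ≤ C) (hn : ∀ c ∈ C, ∀ n ∈ N, c * n * c⁻¹ ∈ N)
    (hs : ∀ c ∈ C, ∃ l ∈ L, ∃ n ∈ N, c = l * n) (hi : ∀ x ∈ L, x ∈ N → x = 1) :
    ∃ ρ : C →* L, ∀ c : C, ((ρ c : L) : G)⁻¹ * c ∈ N := by
  have hs' : ∀ c : C, ∃ l : L, (l : G)⁻¹ * c ∈ N := by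
    rintro ⟨c, hc⟩
    obtain ⟨l, hl, n, hn, rfl⟩ := hs c hc
    exact ⟨⟨l, hl⟩, by
      show l⁻¹ * (l * n) ∈ N
      rwa [inv_mul_cancel_left]⟩
  choose f hf using hs'
  refine ⟨MonoidHom.mk' f ?_, hf⟩
  intro a b
  have h1 := hf a
  have h2 := hf b
  have h3 := hf (a * b)
  -- `x = (f a f b)⁻¹ f (a b) ∈ N`
  have h4 : ((f a : G) * (f b : G))⁻¹ * ((a : G) * b) ∈ N := by
    have e : ((f a : G) * (f b : G))⁻¹ * ((a : G) * b) =
        ((f b : G)⁻¹ * ((f a : G)⁻¹ * a) * (f b : G)⁻¹⁻¹) * ((f b : G)⁻¹ * b) := by group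
    rw [e]
    exact mul_mem (hn _ (hL (inv_mem (f b).2)) _ h1) h2
  have h5 : ((f a : G) * (f b : G))⁻¹ * (f (a * b) : G) ∈ N := by
    have e : ((f a : G) * (f b : G))⁻¹ * (f (a * b) : G) = (((f a : G) * (f b : G))⁻¹ * ((a : G) * b)) *
        ((f (a * b) : G)⁻¹ * ((a * b : C) : G))⁻¹ := by
      rw [Subgroup.coe_mul]; group
    rw [e]
    exact mul_mem h4 (inv_mem h3)
  have h6 := hi _ (mul_mem (inv_mem (mul_mem (f a).2 (f b).2)) (f (a * b)).2) h5
  apply Subtype.ext
  exact (inv_mul_eq_one.1 h6).symm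

theorem mod_list : ∀ n ∈ Nat.divisors 2240, n % 13 = 1 → n = 1 ∨ n = 14 ∨ n = 40 ∨ n = 560 := by (rewrite [Cfsg.Agent.Lib.DivFast.divisors_eq]; decide +kernel)

/-- centralizers of elements of order `13` -/
theorem card_cent [Finite G] (hG : Nat.card G = 29120) {y : G} (hy : orderOf y = 13)
    (hodd : ¬ 2 ∣ Nat.card (centralizer ({y} : Set G))) : Nat.card (centralizer ({y} : Set G)) = 13 := by
  have hf : Fact (Nat.Prime 13) := ⟨by norm_num⟩
  have hP : Nat.card (zpowers y) = 13 := by rw [Nat.card_zpowers, hy]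
  have hPp : IsPGroup 13 (zpowers y) := IsPGroup.of_card (n := 1) (by rw [hP, pow_one])
  have hidx : ¬ 13 ∣ (zpowers y).index := by
    intro h
    have h1 := (zpowers y).card_mul_index
    rw [hP, hG] at h1
    omega
  let P : Sylow 13 G := hPp.toSylow hidx
  have hPc : (P : Subgroup G) = zpowers y := rfl
  have hcc : centralizer ((zpowers y : Subgroup G) : Set G) = centralizer ({y} : Set G) := by
    rw [zpowers_eq_closure]
    exact centralizer_closure {y}
  have h1 := Cfsg.Agent.J2Type.SylowSeven.relIndex_dvd_of_card_prime (zpowers y) hf.out hP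
  rw [hcc] at h1
  have hle : centralizer ({y} : Set G) ≤ normalizer ((zpowers y : Subgroup G) : Set G) := by
    rw [← hcc]
    exact Subgroup.centralizer_le_normalizer _
  have h2 := relIndex_mul_relIndex (⊥ : Subgroup G) _ _ bot_le hle
  rw [relIndex_bot_left, relIndex_bot_left] at h2
  have h3 := (normalizer ((zpowers y : Subgroup G) : Set G)).card_mul_index
  have h4 : (normalizer ((zpowers y : Subgroup G) : Set G)).index = Nat.card (Sylow 13 G) :=
    (Sylow.card_eq_index_normalizer P).symm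
  have h5 : Nat.card (Sylow 13 G) % 13 = 1 := by
    have := card_sylow_modEq_one 13 G
    exact this
  rw [← h4] at h5
  rw [hG, ← h2] at h3
  have h13 : 13 ∣ Nat.card (centralizer ({y} : Set G)) := by
    rw [← hP]
    refine card_dvd_of_le ?_
    rw [zpowers_le, mem_centralizer_singleton_iff]
  obtain ⟨j, hj⟩ := h13
  rw [hj] at h3 hodd ⊢
  generalize (centralizer ({y} : Set G)).relIndex (normalizer ((zpowers y : Subgroup G) : Set G)) = e at h1 h3
  generalize (normalizer ((zpowers y : Subgroup G) : Set G)).index = n at h3 h5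
  have h6 : j * e * n = 2240 := by
    have : 13 * (j * e * n) = 13 * 2240 := by
      rw [show 13 * 2240 = 29120 by norm_num, ← h3]
      ring
    omega
  have h7 : n ∈ Nat.divisors 2240 := by
    rw [Nat.mem_divisors]
    exact ⟨⟨j * e, by rw [← h6]; ring⟩, by norm_num⟩
  have he : e ≤ 12 := Nat.le_of_dvd (by norm_num) h1
  have hj2 : j % 2 = 1 := by (clear * - hodd; omega)
  have h8 : e = 1 ∨ e = 2 ∨ e = 3 ∨ e = 4 ∨ e = 6 ∨ e = 12 := by
    interval_cases e <;> (clear * - h1; omega)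
  rcases mod_list n h7 h5 with h | h | h | h <;> subst h <;> rcases h8 with h | h | h | h | h | h <;> subst h <;> (clear * - hj2 h3; omega)

/-- Sylow's theorem for Sylow subgroups of prime order -/
theorem syl_conj {C : Subgroup G} [Finite G] {p : ℕ} [hp : Fact p.Prime] (h2 : ¬ p * p ∣ Nat.card C) {y y' : G}
    (hy : y ∈ C) (hy' : y' ∈ C) (h : orderOf y = p) (h' : orderOf y' = p) :
    ∃ g ∈ C, ∃ k : ℕ, g * y * g⁻¹ = y' ^ k := by
  have key : ∀ {z : G} (hz : z ∈ C), orderOf z = p → ∃ P : Sylow p C, (P : Subgroup C) = zpowers ⟨z, hz⟩ := by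
    intro z hz ho
    have hc : Nat.card (zpowers (⟨z, hz⟩ : C)) = p := by
      rw [Nat.card_zpowers, Subgroup.orderOf_mk, ho]
    refine ⟨(IsPGroup.of_card (n := 1) (by rw [hc, pow_one])).toSylow (p := p) (P := zpowers (⟨z, hz⟩ : C)) ?_, rfl⟩
    rintro ⟨j, hj⟩
    apply h2
    rw [← (zpowers (⟨z, hz⟩ : C)).card_mul_index, hc, hj]
    exact ⟨j, by ring⟩
  obtain ⟨P, hP⟩ := key hy h
  obtain ⟨Q, hQ⟩ := key hy' h'
  obtain ⟨g, hg⟩ := MulAction.exists_smul_eq C P Q
  have h3 : g * ⟨y, hy⟩ * g⁻¹ ∈ (Q : Subgroup C) := by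
    rw [← hg, Sylow.coe_subgroup_smul, hP]
    exact ⟨_, mem_zpowers _, rfl⟩
  rw [hQ] at h3
  obtain ⟨k, hk⟩ := mem_powers_iff_mem_zpowers.2 h3
  exact ⟨g, g.2, k, (congrArg Subtype.val hk).symm⟩

end Cfsg.Agent.H496.TwEight.Proj
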