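import Cfsg.Agent.H496.SpTwF.Sq
import Cfsg.Agent.H42.Deg.F4BigB
import Cfsg.Agent.H762.CHyp
import Cfsg.Agent.ONan.SL2Hom
import Cfsg.Agent.SmallSimple.S1000.ThinCube
import Cfsg.Agent.H496.TwEight.Proj
import Cfsg.Agent.FastGrp
import Cfsg.Agent.Prune
set_option linter.all false

section
prune_inst 0x7f00000000000000000000000000000000000000000000000000000000000000000000000000000000000000000000000000000000000000000000000000000000000000000000000000000000000000003fffffffffffffffffffffffffffbeffbdffffffff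

-- part: H496/TwEight/Card
section
set_option linter.all false
open scoped Cfsg.Agent.FastGrp

/-!
# Orders of `PL = C(Z_4)` and `HO = C(X_5)` in `²F₄(q)`; involutions (helper496, for helper857, S5936)

* `card_PL`, `card_HO`;
* `inv_cases` : the centralizer of an involution is a conjugate of `PL` or `HO`.
-/

set_option autoImplicit false
set_option linter.unusedSectionVars false

namespace Cfsg.Agent.H496.TwEight.Card

open Subgroup
open Cfsg.Agent.SplitTwo Cfsg.Agent.SplitTwo.ZS Cfsg.Agent.TitsThree.RankTwoZ Cfsg.Agent.SplitTwo.RootSysZ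
open Cfsg.Agent.KFacts.TwF4 Cfsg.Agent.KFacts.TwF4.Arc Cfsg.Agent.KFacts.TwF4.Irr Cfsg.Agent.KFacts.TwF4.Perf
open Cfsg.Agent.KFacts.TwF4.Inv
open Cfsg.Agent.H496.TwFRad.Levi

universe u

variable {F : Type*} [Field F] {σ : F →+* F} {G : Type u} [Group G] (S : Full σ G)

theorem exists_unit_of_card (h8 : Nat.card F = 8) : ∃ c : Fˣ, c ≠ 1 := by
  have hfin : Finite F := Nat.finite_of_card_ne_zero (by omega)
  have h1 : Nat.card Fˣ = 7 := by rw [Nat.card_units, h8]
  have : Nontrivial Fˣ := Finite.one_lt_card_iff_nontrivial.1 (by omega)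
  exact exists_ne 1

theorem HO_split {y : G} (hy : y ∈ S.HO) : ∃ l ∈ S.LO, ∃ q ∈ S.NO, y = l * q := by
  have h1 : S.HO ≤ J S.XZ 1 9 := sup_le S.LO_le_J (inf_le_left.trans (J_mono (by norm_num) (by norm_num)))
  obtain ⟨l, hl, q, hq, rfl⟩ := S.J19_split (h1 hy)
  refine ⟨l, hl, q, ⟨hq, ?_⟩, rfl⟩
  have h2 := S.HO_le_cent hy
  have : q = l⁻¹ * (l * q) := by group
  rw [this]
  exact (Subgroup.centralizer (S.XZ 5 : Set G)).mul_mem ((Subgroup.centralizer (S.XZ 5 : Set G)).inv_mem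
    (S.LO_le_cent hl)) h2

theorem NO_norm {l q : G} (hl : l ∈ S.HO) (hq : q ∈ S.NO) : l * q * l⁻¹ ∈ S.NO := by
  have h1 : S.HO ≤ J S.XZ 1 9 := sup_le S.LO_le_J (inf_le_left.trans (J_mono (by norm_num) (by norm_num)))
  refine ⟨?_, ?_⟩
  · exact S.zsys8.conj_J (a := 2) (b := 8) (c := 1) (d := 9) (by norm_num) (by norm_num) (by norm_num) (h1 hl) hq.1
  · have h2 := S.HO_le_cent hl
    exact (Subgroup.centralizer (S.XZ 5 : Set G)).mul_mem ((Subgroup.centralizer (S.XZ 5 : Set G)).mul_mem h2 hq.2)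
      ((Subgroup.centralizer (S.XZ 5 : Set G)).inv_mem h2)

theorem card_J37 : Nat.card (J S.XZ 3 7) = Nat.card F ^ 7 := by
  have c3 := Cfsg.Agent.CpAutTwF.Card.card_odd S 1
  have c4 := Cfsg.Agent.CpAutTwF.Card.card_even S 2
  have c5 := Cfsg.Agent.CpAutTwF.Card.card_odd S 2
  have c6 := Cfsg.Agent.CpAutTwF.Card.card_even S 3
  have c7 := Cfsg.Agent.CpAutTwF.Card.card_odd S 3
  norm_num at c3 c4 c5 c6 c7
  rw [Cfsg.Agent.CpAutTwF.Card.card_J_succ S (by norm_num) (by norm_num), c3, show (3 : ℤ) + 1 = 4 by norm_num,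
    Cfsg.Agent.CpAutTwF.Card.card_J_succ S (by norm_num) (by norm_num), c4, show (4 : ℤ) + 1 = 5 by norm_num,
    Cfsg.Agent.CpAutTwF.Card.card_J_succ S (by norm_num) (by norm_num), c5, show (5 : ℤ) + 1 = 6 by norm_num,
    Cfsg.Agent.CpAutTwF.Card.card_J_succ S (by norm_num) (by norm_num), c6, show (6 : ℤ) + 1 = 7 by norm_num,
    Cfsg.Agent.CpAutTwF.Card.card_J_succ S (by norm_num) (by norm_num), c7, show (7 : ℤ) + 1 = 8 by norm_num,
    Cfsg.Agent.CpAutTwF.Card.card_J_empty S (by norm_num)]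
  ring

theorem card_NO : Nat.card S.NO = Nat.card F ^ 9 := by
  set C : Subgroup G := J S.XZ 3 8 ⊓ Subgroup.centralizer (S.XZ 5 : Set G) with hC
  have hJC : J S.XZ 3 7 ≤ C := le_inf (J_mono le_rfl (by norm_num)) ((S.J37_le).trans inf_le_right)
  have hZC : S.Zc 4 ≤ C := by
    rintro _ ⟨v, rfl⟩
    exact ⟨mem_J (S.mX8 0 v) (by norm_num) le_rfl, (S.Z8_NO v).2⟩
  have hCN : C ≤ S.NO := inf_le_inf_right _ (J_mono (by norm_num) le_rfl)
  have h1 : Nat.card C = Nat.card (J S.XZ 3 7) * Nat.card (S.Zc 4) := by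
    refine Cfsg.Agent.CpAutTwF.Count.card_mul_of hJC hZC ?_ ?_
    · intro c hc
      obtain ⟨u, v, r, hr, h⟩ := S.mem_NO_iff.1 (hCN hc)
      refine ⟨r, hr, S.e 4 0 v, ⟨v, rfl⟩, ?_⟩
      have h2 : S.e 1 0 u ∈ J S.XZ 3 8 := by
        have e1 : S.e 1 0 u = c * (S.e 4 0 v)⁻¹ * r⁻¹ := by rw [h]; group
        rw [e1]
        exact mul_mem (mul_mem hc.1 (inv_mem (hZC ⟨v, rfl⟩).1)) (inv_mem (hJC hr).1)
      have h3 : S.e 1 0 u = 1 := S.zsys8.inter_one (a := 2) (b := 2) (c := 3) (d := 8) 2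
        (mem_J (S.mX2 0 u) le_rfl le_rfl) h2 (by norm_num) (by norm_num) (by norm_num) (by norm_num) (by norm_num)
      rw [h, h3, one_mul]
    · intro x hx hx'
      obtain ⟨v, rfl⟩ := hx'
      exact S.zsys8.inter' (k := 8) (S.mX8 0 v) (J_mono (by norm_num) le_rfl hx)
  have h2 : Nat.card S.NO = Nat.card (S.Zc 1) * Nat.card C := by
    refine Cfsg.Agent.CpAutTwF.Count.card_mul_of ?_ hCN ?_ ?_
    · rintro _ ⟨u, rfl⟩
      exact S.Z2_NO u
    · intro c hc
      obtain ⟨u, v, r, hr, h⟩ := S.mem_NO_iff.1 hc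
      exact ⟨S.e 1 0 u, ⟨u, rfl⟩, r * S.e 4 0 v, mul_mem (hJC hr) (hZC ⟨v, rfl⟩), by rw [h, mul_assoc]⟩
    · intro x hx hx'
      obtain ⟨u, rfl⟩ := hx
      exact S.zsys8.inter_one (a := 2) (b := 2) (c := 3) (d := 8) 2
        (mem_J (S.mX2 0 u) le_rfl le_rfl) hx'.1 (by norm_num) (by norm_num) (by norm_num) (by norm_num) (by norm_num)
  rw [h2, h1, card_J37, Cfsg.Agent.CpAutTwF.Card.card_Zc, Cfsg.Agent.CpAutTwF.Card.card_Zc]
  ring

section fin

variable [Finite F] [Finite G]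

theorem LO_inf_NO (hF : ∃ c : Fˣ, c ≠ 1) {x : G} (hx : x ∈ S.LO) (hx' : x ∈ S.NO) : x = 1 :=
  Cfsg.Agent.H42.Deg.F4.LO_inf_N1 S hF hx (mem_sup_right hx'.1)

theorem card_HO' (hF : ∃ c : Fˣ, c ≠ 1) : Nat.card S.HO = Nat.card F ^ 10 * (Nat.card F - 1) * (Nat.card F + 1) := by
  have h := Cfsg.Agent.CpAutTwF.Count.card_mul_of (A := S.LO) (B := S.NO) (C := S.HO) le_sup_left le_sup_right
    (fun c hc => by
      obtain ⟨l, hl, q, hq, h⟩ := HO_split S hc
      exact ⟨l, hl, q, hq, h⟩) (fun x hx hx' => LO_inf_NO S hF hx hx')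
  rw [h, card_NO, Cfsg.Agent.H42.Deg.F4.card_LO, Nat.card_units]
  ring

theorem card_PL' (hF : ∃ c : Fˣ, c ≠ 1) :
    Nat.card S.PL = Nat.card F ^ 12 * (Nat.card F - 1) * (Nat.card F * Nat.card F + 1) := by
  have h := Cfsg.Agent.CpAutTwF.Count.card_mul_of (A := L4 S) (B := S.Q) (C := S.PL) (L4_le_PL S) (fun _ hx => Q_PL S hx)
    (fun c hc => by
      obtain ⟨l, hl, q, hq, h⟩ := PL_split S hc
      exact ⟨l, hl, q, hq, h⟩) (fun x hx hx' => L4_inf_Q S hF hx hx')
  rw [h, card_L4 S hF, Cfsg.Agent.H762.PL.card_Q]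
  ring

theorem card_HO (h8 : Nat.card F = 8) : Nat.card S.HO = 2 ^ 30 * 63 := by
  rw [card_HO' S (exists_unit_of_card h8), h8]
  norm_num

theorem card_PL (h8 : Nat.card F = 8) : Nat.card S.PL = 2 ^ 36 * 455 := by
  rw [card_PL' S (exists_unit_of_card h8), h8]
  norm_num

/-- **the centralizers of the involutions** -/
theorem inv_cases (hF : ∃ c : Fˣ, c ≠ 1) (hR : S.R.p = 2) {t : G} (ht : orderOf t = 2) :
    (∃ g : G, ∃ u : F, u ≠ 0 ∧ g * S.e 2 0 u * g⁻¹ = t ∧
      Subgroup.centralizer {t} = S.PL.map (MulAut.conj g).toMonoidHom) ∨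
    (∃ g : G, ∃ s : F, s ≠ 0 ∧ g * S.o 2 s * g⁻¹ = t ∧
      Subgroup.centralizer {t} = S.HO.map (MulAut.conj g).toMonoidHom) := by
  have ht2 : t * t = 1 := by
    rw [← pow_two, ← ht]
    exact pow_orderOf_eq_one t
  have ht1 : t ≠ 1 := by
    rintro rfl
    rw [orderOf_one] at ht
    omega
  have hcen : ∀ {g a : G} {C : Subgroup G}, g * a * g⁻¹ = t → Subgroup.centralizer {a} = C →
      Subgroup.centralizer {t} = C.map (MulAut.conj g).toMonoidHom := by
    intro g a C h1 h2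
    rw [← h2]
    ext x
    constructor
    · intro hx
      refine ⟨g⁻¹ * x * g, ?_, ?_⟩
      · rw [SetLike.mem_coe, mem_centralizer_singleton_iff] at *
        calc g⁻¹ * x * g * a = g⁻¹ * (x * (g * a * g⁻¹)) * g := by group
          _ = g⁻¹ * ((g * a * g⁻¹) * x) * g := by rw [h1, hx]
          _ = _ := by group
      · show g * (g⁻¹ * x * g) * g⁻¹ = x
        group
    · rintro ⟨y, hy, rfl⟩
      rw [SetLike.mem_coe, mem_centralizer_singleton_iff] at hy
      rw [mem_centralizer_singleton_iff, ← h1]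
      show g * y * g⁻¹ * (g * a * g⁻¹) = g * a * g⁻¹ * (g * y * g⁻¹)
      calc g * y * g⁻¹ * (g * a * g⁻¹) = g * (y * a) * g⁻¹ := by group
        _ = g * (a * y) * g⁻¹ := by rw [hy]
        _ = _ := by group
  rcases SylU.classes S hF hR ht2 ht1 with ⟨u, hu, k, hk⟩ | ⟨s, hs, k, hk⟩
  · left
    refine ⟨(S.rot * (S.rot * k))⁻¹, u, hu, ?_, ?_⟩
    · have e1 : S.rot * (S.rot * k) * t * (S.rot * (S.rot * k))⁻¹ = S.e 2 0 u := by
        calc S.rot * (S.rot * k) * t * (S.rot * (S.rot * k))⁻¹ = S.rot * (S.rot * (k * t * k⁻¹) * S.rot⁻¹) * S.rot⁻¹ := by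
              group
          _ = S.e 2 0 u := by rw [hk, S.rot_e, S.rot_e]; rfl
      rw [← e1]
      group
    · refine hcen (a := S.e 2 0 u) ?_ (S.centralizer_z (z := S.e 2 0 u) ⟨u, rfl⟩ fun h => hu (S.e_eq_one h).2)
      have e1 : S.rot * (S.rot * k) * t * (S.rot * (S.rot * k))⁻¹ = S.e 2 0 u := by
        calc S.rot * (S.rot * k) * t * (S.rot * (S.rot * k))⁻¹ = S.rot * (S.rot * (k * t * k⁻¹) * S.rot⁻¹) * S.rot⁻¹ := by
              group
          _ = S.e 2 0 u := by rw [hk, S.rot_e, S.rot_e]; rfl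
      rw [← e1]
      group
  · right
    have e1 : S.rot * (S.rot * k) * t * (S.rot * (S.rot * k))⁻¹ = S.o 2 s := by
      calc S.rot * (S.rot * k) * t * (S.rot * (S.rot * k))⁻¹ = S.rot * (S.rot * (k * t * k⁻¹) * S.rot⁻¹) * S.rot⁻¹ := by
            group
        _ = S.o 2 s := by rw [hk, S.rot_o, S.rot_o]; rfl
    have e2 : (S.rot * (S.rot * k))⁻¹ * S.o 2 s * (S.rot * (S.rot * k))⁻¹⁻¹ = t := by
      rw [← e1]
      group
    exact ⟨(S.rot * (S.rot * k))⁻¹, s, hs, e2, hcen e2 (S.centralizer_o hs)⟩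

theorem card_map_conj (g : G) (C : Subgroup G) : Nat.card (C.map (MulAut.conj g).toMonoidHom) = Nat.card C :=
  card_map_of_injective (MulAut.conj g).injective

/-- **task C5** -/
theorem inv_cases_eight (h8 : Nat.card F = 8) (hR : S.R.p = 2) {t : G} (ht : orderOf t = 2) :
    (Nat.card (Subgroup.centralizer ({t} : Set G)) = 2 ^ 36 * 455 ∧
      ∃ g : G, Subgroup.centralizer ({t} : Set G) = S.PL.map (MulAut.conj g).toMonoidHom) ∨
    (Nat.card (Subgroup.centralizer ({t} : Set G)) = 2 ^ 30 * 63 ∧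
      ∃ g : G, Subgroup.centralizer ({t} : Set G) = S.HO.map (MulAut.conj g).toMonoidHom) := by
  rcases inv_cases S (exists_unit_of_card h8) hR ht with ⟨g, u, -, -, h⟩ | ⟨g, s, -, -, h⟩
  · left
    refine ⟨?_, g, h⟩
    rw [h, card_map_conj, card_PL S h8]
  · right
    refine ⟨?_, g, h⟩
    rw [h, card_map_conj, card_HO S h8]

end fin

end Cfsg.Agent.H496.TwEight.Card
end

-- part: H496/TwEight/HOFacts
section
set_option linter.all false
open scoped Cfsg.Agent.FastGrp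

-- part: H496/TwEight/OddSub
section
/-!
# Subgroups of odd order of `LO ≅ SL₂(8)` (helper496, for helper857, S5936)

* `odd_sub` : subgroups of odd order divisible by `3` of a group of order `504` with an element of order `9` and
  `3 ∤ |N(7)|` are cyclic of order dividing `9`;
* `rel` : the homomorphism `SL₂(F) → LO`.
-/

set_option autoImplicit false
set_option linter.unusedSectionVars false

namespace Cfsg.Agent.H496.TwEight.OddSub

open Subgroup

section Abs

theorem cyc_mem {C : Type*} [Group C] [Finite C] [IsCyclic C] {a b : C} {n : ℕ} (ha : a ^ n = 1) (hb : orderOf b = n) :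
    a ∈ zpowers b := by
  classical
  have hn : 0 < n := by rw [← hb]; exact orderOf_pos b
  have : Fintype C := Fintype.ofFinite C
  by_contra hcon
  have h1 := IsCyclic.card_pow_eq_one_le (α := C) hn
  have h2 : insert a (Finset.univ.filter fun c : C => c ∈ zpowers b) ⊆ Finset.univ.filter fun c : C => c ^ n = 1 := by
    intro c hc
    rw [Finset.mem_filter]
    refine ⟨Finset.mem_univ _, ?_⟩
    rcases Finset.mem_insert.1 hc with rfl | hc
    · exact ha
    · obtain ⟨k, rfl⟩ := mem_zpowers_iff.1 (Finset.mem_filter.1 hc).2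
      rw [← zpow_natCast, ← zpow_mul, mul_comm, zpow_mul, zpow_natCast, ← hb, pow_orderOf_eq_one, one_zpow]
  have h3 := Finset.card_le_card h2
  rw [Finset.card_insert_of_notMem (by simpa using hcon)] at h3
  have h4 : (Finset.univ.filter fun c : C => c ∈ zpowers b).card = n := by
    rw [← hb, ← Nat.card_zpowers, Nat.card_eq_fintype_card, Fintype.card_subtype]
  omega

variable {L : Type*} [Group L] [Finite L]

theorem odd_sub (hL : Nat.card L = 504) {g : L} (hg : orderOf g = 9) {T : Subgroup L} (hT : Nat.card T = 7)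
    (hN : ¬ 3 ∣ Nat.card (normalizer (T : Set L))) {E : Subgroup L} (hodd : Odd (Nat.card E)) (h3 : 3 ∣ Nat.card E) :
    IsCyclic E ∧ Nat.card E ∣ 9 := by
  classical
  have f3 : Fact (Nat.Prime 3) := ⟨by norm_num⟩
  have f7 : Fact (Nat.Prime 7) := ⟨by norm_num⟩
  have hd : Nat.card E ∣ 504 := by rw [← hL]; exact E.card_subgroup_dvd_card
  have hd63 : Nat.card E ∣ 63 := by
    have h1 : (Nat.card E).Coprime 8 := by
      have : (Nat.card E).Coprime (2 ^ 3) := (Nat.Coprime.pow_right 3 (Nat.coprime_two_right.2 hodd))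
      exact this
    exact h1.dvd_of_dvd_mul_left (show Nat.card E ∣ 8 * 63 from hd)
  -- a Sylow `7`-subgroup from a subgroup of order `7`
  have syl7 : ∀ Q : Subgroup L, Nat.card Q = 7 → (normalizer (Q : Set L)).index = Nat.card (Sylow 7 L) := by
    intro Q hQ
    have hp : IsPGroup 7 Q := IsPGroup.of_card (n := 1) (by rw [hQ, pow_one])
    have hi : ¬ 7 ∣ Q.index := by
      intro h
      have h1 := Q.card_mul_index
      rw [hQ, hL] at h1
      omega
    exact (Sylow.card_eq_index_normalizer (hp.toSylow hi)).symm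
  have h7 : ¬ 7 ∣ Nat.card E := by
    intro h7
    obtain ⟨P⟩ : Nonempty (Sylow 7 E) := inferInstance
    have hPc : Nat.card (P : Subgroup E) = 7 := by
      rw [P.card_eq_multiplicity]
      have : (Nat.card E).factorization 7 = 1 := by
        obtain ⟨a, ha⟩ := h7
        obtain ⟨b, hb⟩ := hd63
        have ha9 : a ∣ 9 := ⟨b, by
          have : 7 * 9 = 7 * (a * b) := by rw [← mul_assoc, ← ha, ← hb]
          omega⟩
        have ha0 : ¬ 7 ∣ a := fun h => by
          have := h.trans ha9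
          omega
        have hane : a ≠ 0 := by
          rintro rfl
          omega
        rw [ha, Nat.factorization_mul (by norm_num) hane, Finsupp.add_apply, Nat.factorization_eq_zero_of_not_dvd ha0,
          Nat.Prime.factorization_self (by norm_num)]
      rw [this, pow_one]
    have h1 : Nat.card (Sylow 7 E) % 7 = 1 := card_sylow_modEq_one 7 E
    have h2 : Nat.card (Sylow 7 E) ∣ (P : Subgroup E).index := P.card_dvd_index
    have h4 := (P : Subgroup E).card_mul_index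
    rw [hPc] at h4
    have h5 : (P : Subgroup E).index ∣ 9 := by
      obtain ⟨b, hb⟩ := hd63
      refine ⟨b, ?_⟩
      have : 7 * 9 = 7 * ((P : Subgroup E).index * b) := by rw [← mul_assoc, h4, ← hb]
      omega
    have h6 : Nat.card (Sylow 7 E) = 1 := by
      have h8 := h2.trans h5
      have h9 := Nat.le_of_dvd (by norm_num) h8
      generalize Nat.card (Sylow 7 E) = n at h1 h8 h9
      interval_cases n <;> omega
    have hsub : Subsingleton (Sylow 7 E) := (Nat.card_eq_one_iff_unique.1 h6).1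
    have hnorm : (P : Subgroup E).Normal := P.normal_of_subsingleton
    set Q : Subgroup L := (P : Subgroup E).map E.subtype with hQ
    have hQc : Nat.card Q = 7 := by
      rw [hQ, card_map_of_injective E.subtype_injective, hPc]
    have hEQ : E ≤ normalizer (Q : Set L) := by
      intro e he
      rw [mem_normalizer_iff]
      have key : ∀ f : E, ∀ x ∈ Q, (f : L) * x * (f : L)⁻¹ ∈ Q := by
        rintro f _ ⟨y, hy, rfl⟩
        exact ⟨f * y * f⁻¹, hnorm.conj_mem y hy f, rfl⟩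
      intro x
      refine ⟨fun hx => key ⟨e, he⟩ x hx, fun hx => ?_⟩
      have := key (⟨e, he⟩ : E)⁻¹ _ hx
      have e1 : (((⟨e, he⟩ : E)⁻¹ : E) : L) * (e * x * e⁻¹) * ((((⟨e, he⟩ : E)⁻¹ : E) : L))⁻¹ = x := by
        show e⁻¹ * (e * x * e⁻¹) * e⁻¹⁻¹ = x
        group
      rwa [e1] at this
    have h10 : Nat.card (normalizer (Q : Set L)) = Nat.card (normalizer (T : Set L)) := by
      have h11 := (normalizer (Q : Set L)).card_mul_index
      have h12 := (normalizer (T : Set L)).card_mul_index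
      rw [syl7 Q hQc] at h11
      rw [syl7 T hT] at h12
      exact Nat.eq_of_mul_eq_mul_right Nat.card_pos (h11.trans h12.symm)
    apply hN
    rw [← h10]
    exact h3.trans (card_dvd_of_le hEQ)
  have h9 : Nat.card E ∣ 9 := by
    have h1 : (Nat.card E).Coprime 7 := ((Nat.Prime.coprime_iff_not_dvd (by norm_num)).2 h7).symm
    exact h1.dvd_of_dvd_mul_left (show Nat.card E ∣ 7 * 9 from hd63)
  refine ⟨?_, h9⟩
  have hE3 : IsPGroup 3 E := by
    obtain ⟨k, -, hk⟩ := (Nat.dvd_prime_pow (by norm_num : Nat.Prime 3)).1 (show Nat.card E ∣ 3 ^ 2 from h9)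
    exact IsPGroup.of_card hk
  obtain ⟨P, hP⟩ := hE3.exists_le_sylow
  have hg9 : Nat.card (zpowers g) = 9 := by rw [Nat.card_zpowers, hg]
  let Q : Sylow 3 L := (IsPGroup.of_card (n := 2) (G := zpowers g) (p := 3) (by rw [hg9]; norm_num)).toSylow (by
    intro h
    have h1 := (zpowers g).card_mul_index
    rw [hg9, hL] at h1
    omega)
  have hQc : IsCyclic (Q : Subgroup L) := by
    show IsCyclic (zpowers g)
    infer_instance
  have hPc : IsCyclic (P : Subgroup L) := isCyclic_of_surjective (Q.equiv P) (Q.equiv P).surjective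
  exact isCyclic_of_injective (Subgroup.inclusion hP) (Subgroup.inclusion_injective hP)

/-- the consequence for a subgroup normalised by an element of order `3` -/
theorem eq_bot_of (hL : Nat.card L = 504) {g : L} (hg : orderOf g = 9) {T : Subgroup L} (hT : Nat.card T = 7)
    (hN : ¬ 3 ∣ Nat.card (normalizer (T : Set L))) {D : Subgroup L} (hodd : Odd (Nat.card D)) {d : L} (hd : orderOf d = 3)
    (hn : ∀ a ∈ D, d * a * d⁻¹ ∈ D) (hdD : d ∉ D) : D = ⊥ := by
  have hle : zpowers d ≤ normalizer (D : Set L) := by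
    rw [zpowers_le]
    have hfin : (D : Set L).Finite := Set.toFinite _
    rw [mem_normalizer_iff]
    have h1 : ∀ n : ℕ, ∀ a ∈ D, d ^ n * a * (d ^ n)⁻¹ ∈ D := by
      intro n
      induction n with
      | zero => intro a ha; simpa using ha
      | succ n ih =>
        intro a ha
        have e : d ^ (n + 1) * a * (d ^ (n + 1))⁻¹ = d * (d ^ n * a * (d ^ n)⁻¹) * d⁻¹ := by
          rw [pow_succ']; group
        rw [e]
        exact hn _ (ih a ha)
    intro a
    refine ⟨hn a, fun ha => ?_⟩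
    have h2 := h1 2 _ ha
    have h3 : d ^ 2 * d = 1 := by
      have := pow_orderOf_eq_one d
      rwa [hd, pow_succ] at this
    have e : d ^ 2 * (d * a * d⁻¹) * (d ^ 2)⁻¹ = (d ^ 2 * d) * a * (d ^ 2 * d)⁻¹ := by group
    rw [e, h3, one_mul, inv_one, mul_one] at h2
    exact h2
  have hc := Cfsg.Agent.SmallSimple.S1000.ThinCube.card_sup_dvd (zpowers d) D hle
  rw [Nat.card_zpowers, hd] at hc
  have hodd' : Odd (Nat.card (zpowers d ⊔ D : Subgroup L)) := by
    refine Odd.of_dvd_nat ?_ hc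
    exact Odd.mul (by decide) hodd
  have h3 : 3 ∣ Nat.card (zpowers d ⊔ D : Subgroup L) := by
    rw [← hd, ← Nat.card_zpowers]
    exact card_dvd_of_le le_sup_left
  obtain ⟨hcyc, h9⟩ := odd_sub hL hg hT hN hodd' h3
  -- `|D|` divides `9`; if it is divisible by `3`, `d ∈ D`
  have hD9 : Nat.card D ∣ 9 := (card_dvd_of_le le_sup_right).trans h9
  by_contra hne
  have hD3 : 3 ∣ Nat.card D := by
    obtain ⟨k, -, hk⟩ := (Nat.dvd_prime_pow (by norm_num : Nat.Prime 3)).1 (show Nat.card D ∣ 3 ^ 2 from hD9)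
    rcases k with _ | k
    · rw [pow_zero] at hk
      exact absurd (Subgroup.eq_bot_of_card_eq D hk) hne
    · rw [hk, pow_succ]
      exact Dvd.intro_left _ rfl
  have f3 : Fact (Nat.Prime 3) := ⟨by norm_num⟩
  obtain ⟨a, ha⟩ := exists_prime_orderOf_dvd_card' 3 hD3
  have ha' : orderOf (a : L) = 3 := by rw [orderOf_coe, ha]
  apply hdD
  -- two subgroups of order `3` of a cyclic group
  let C := (zpowers d ⊔ D : Subgroup L)
  have h6 : (⟨d, mem_sup_left (mem_zpowers d)⟩ : C) ∈ zpowers (⟨a, mem_sup_right a.2⟩ : C) := by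
    refine cyc_mem (n := 3) ?_ (by rw [Subgroup.orderOf_mk, ha'])
    apply Subtype.ext
    show d ^ 3 = 1
    have := pow_orderOf_eq_one d
    rwa [hd] at this
  obtain ⟨k, hk⟩ := h6
  have h7 : (a : L) ^ k = d := congrArg Subtype.val hk
  rw [← h7]
  exact D.zpow_mem a.2 k

end Abs

end Cfsg.Agent.H496.TwEight.OddSub
end

-- part: H496/TwEight/HOFacts
section
/-!
# Subgroups of odd order of `HO = C(X_5)` in `²F₄(8)` (helper496, for helper857, S5936)

* `rel` : the homomorphism `SL₂(F) → LO`;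
* `odd_HO` (task C2).
-/

set_option autoImplicit false
set_option linter.unusedSectionVars false

namespace Cfsg.Agent.H496.TwEight.HOFacts

open Subgroup
open Cfsg.Agent.SplitTwo Cfsg.Agent.SplitTwo.ZS Cfsg.Agent.TitsThree.RankTwoZ Cfsg.Agent.SplitTwo.RootSysZ
open Cfsg.Agent.KFacts.TwF4 Cfsg.Agent.KFacts.TwF4.Arc Cfsg.Agent.KFacts.TwF4.Irr Cfsg.Agent.KFacts.TwF4.Perf
open Cfsg.Agent.KFacts.TwF4.Inv
open Cfsg.Agent.H496.TwEight.Card Cfsg.Agent.H496.TwEight.Proj Cfsg.Agent.H496.TwEight.OddSub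
open Cfsg.Agent.ONan.SL2Hom Cfsg.Agent.H42.Deg.F4

universe u

/-! ### an element of order nine of `SL₂` -/

section SL

variable {F : Type*} [Field F]

/-- the matrix `[[1 + t, 1], [t, 1]]` -/
def gg (t : F) : Matrix.SpecialLinearGroup (Fin 2) F := _root_.Cfsg.Agent.ONan.SL2Hom.mk (1 + t) 1 t 1 (by ring)

theorem coe_gg (t : F) : ((gg t : Matrix.SpecialLinearGroup (Fin 2) F) : Matrix (Fin 2) (Fin 2) F) = !![1 + t, 1; t, 1] := rfl

theorem coe_gg_three (h2 : (2 : F) = 0) {t : F} (ht : t ^ 3 = t + 1) :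
    (((gg t) ^ 3 : Matrix.SpecialLinearGroup (Fin 2) F) : Matrix (Fin 2) (Fin 2) F) =
      !![t ^ 2 + t, t ^ 2 + 1; 1, t ^ 2 + t + 1] := by
  rw [Matrix.SpecialLinearGroup.coe_pow, coe_gg, pow_succ, pow_two]
  ext i j
  (revert i j; simp only [Matrix.mul_apply, Fin.sum_univ_two, _root_.Fin.forall_fin_succ, _root_.Matrix.cons_mul, _root_.Nat.succ_eq_add_one, Nat.reduceAdd, _root_.Matrix.vecMul_cons, _root_.Matrix.head_cons, _root_.Matrix.smul_cons, _root_.smul_eq_mul, _root_.mul_one, _root_.Matrix.smul_empty, _root_.Matrix.tail_cons, _root_.one_smul, _root_.Matrix.empty_vecMul, _root_.add_zero, _root_.Matrix.add_cons, _root_.Matrix.empty_add_empty, _root_.Matrix.empty_mul, _root_.Equiv.symm_apply_apply, _root_.Matrix.of_apply, _root_.Matrix.cons_val', _root_.Matrix.cons_val_fin_one, Fin.isValue, _root_.Matrix.cons_val_zero, _root_.Matrix.cons_val_one, _root_.Matrix.cons_val_succ, _root_.forall_const, _root_.and_true, _root_.true_and])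 <;> (repeat' with_reducible apply And.intro)
  · linear_combination ht + (1 + 2 * t ^ 2 + 3 * t) * h2
  · linear_combination (2 * t + 1 ) * h2
  · linear_combination ht + (2 * t ^ 2 + 2 * t) * h2
  · linear_combination (t ) * h2

theorem gg_three_ne {t : F} (h2 : (2 : F) = 0) (ht : t ^ 3 = t + 1) : (gg t) ^ 3 ≠ 1 := by
  intro h
  have h1 := coe_gg_three h2 ht
  rw [h] at h1
  have h3 := congrFun (congrFun h1 1) 0
  simp at h3

theorem gg_nine {t : F} (h2 : (2 : F) = 0) (ht : t ^ 3 = t + 1) : (gg t) ^ 9 = 1 := by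
  have h1 : (gg t) ^ 9 = ((gg t) ^ 3) ^ 3 := by rw [← pow_mul]
  rw [h1]
  have h3 : (!![t ^ 2 + t, t ^ 2 + 1; 1, t ^ 2 + t + 1] : Matrix (Fin 2) (Fin 2) F) *
      !![t ^ 2 + t, t ^ 2 + 1; 1, t ^ 2 + t + 1] = !![t ^ 2 + t, t ^ 2 + 1; 1, t ^ 2 + t + 1] + 1 := by
    ext i j
    (revert i j; simp only [Matrix.mul_apply, Fin.sum_univ_two, _root_.Fin.forall_fin_succ, _root_.Matrix.of_apply, _root_.Matrix.cons_val', _root_.Matrix.cons_val_fin_one, Fin.isValue, _root_.Matrix.cons_val_zero, _root_.Matrix.cons_val_one, _root_.Matrix.add_apply, _root_.mul_one, _root_.Matrix.cons_val_succ, _root_.IsEmpty.forall_iff, _root_.Matrix.one_apply_eq, Nat.reduceAdd, _root_.Fin.succ_zero_eq_one, _root_.ne_eq, _root_.zero_ne_one, _root_.not_false_eq_true, _root_.Matrix.one_apply_ne, _root_.add_zero, _root_.one_mul, _root_.Fin.succ_ne_zero, _root_.and_true, _root_.true_and]) <;> (repeat' with_reducible apply And.intro)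
    · linear_combination t * ht + (t ^ 3 + t ^ 2) * h2
    · linear_combination (t ^ 2 + 1) * (t ^ 2 + t) * h2
    · linear_combination (t ^ 2 + t) * h2
    · linear_combination t * ht + (t ^ 3 + 2 * t ^ 2 + t) * h2
  apply Subtype.ext
  rw [Matrix.SpecialLinearGroup.coe_pow, coe_gg_three h2 ht, pow_succ, pow_two, h3, add_mul, h3, one_mul,
    add_right_comm, ← two_smul F, h2, zero_smul, zero_add]
  rfl

theorem exists_t (h2 : (2 : F) = 0) {z : F} (hz : z ^ 7 = 1) (hz1 : z ≠ 1) : ∃ t : F, t ^ 3 = t + 1 := by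
  have h0 : z ≠ 0 := by rintro rfl; simp at hz
  have h3 : (z - 1) * ((z ^ 3 + z + 1) * (z ^ 3 + z ^ 2 + 1)) = 0 := by
    linear_combination hz + (z ^ 4 - z ^ 3) * h2
  rcases mul_eq_zero.1 h3 with h4 | h4
  · exact absurd (sub_eq_zero.1 h4) hz1
  rcases mul_eq_zero.1 h4 with h5 | h5
  · exact ⟨z, by linear_combination h5 - (z + 1) * h2⟩
  · refine ⟨z⁻¹, ?_⟩
    field_simp
    linear_combination h5 - (z ^ 3 + z ^ 2) * h2

end SL

variable {F : Type*} [Field F] {σ : F →+* F} {G : Type u} [Group G] (S : Full σ G)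

/-! ### the homomorphism `SL₂(F) → LO` -/

open Classical in
/-- `diag(r, 1/r)` -/
noncomputable def nu (r : F) : G := if h : r ≠ 0 then S.h (Units.mk0 r h) (Units.mk0 r h) else 1

theorem nu_ne {r : F} (h : r ≠ 0) : nu S r = S.h (Units.mk0 r h) (Units.mk0 r h) := dif_pos h

theorem rel [Finite F] : _root_.Cfsg.Agent.ONan.SL2Hom.Rel (S.o 0) (nu S) S.n1 (1 : F) where
  c_ne := one_ne_zero
  T_add a b := (S.o_add 0 a b).symm
  ν_mul r s hr hs := by
    rw [nu_ne S hr, nu_ne S hs, nu_ne S (mul_ne_zero hr hs), S.h_mul]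
    congr 1 <;> exact Units.ext rfl
  ν_T r s hr := by
    rw [nu_ne S hr]
    have h1 := S.h_o (Units.mk0 r hr) (Units.mk0 r hr) 0 s
    have h2 : ((chO σ 0 (Units.mk0 r hr) (Units.mk0 r hr) : Fˣ) : F) = r ^ 2 := by
      rw [pow_two]
      rfl
    rw [h2] at h1
    rw [← h1]
    group
  m_ν r hr := by
    rw [nu_ne S hr, nu_ne S (inv_ne_zero hr)]
    have h1 := Arc.n1_h S (Units.mk0 r hr) (Units.mk0 r hr)
    have h2 : (Units.mk0 r hr)⁻¹ = Units.mk0 r⁻¹ (inv_ne_zero hr) := Units.ext rfl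
    rw [h2] at h1
    rw [← h1]
    group
  m_m := by
    have h1 : (-1 : F) = 1 := S.neg_one_eq
    rw [h1, nu_ne S one_ne_zero, S.n1_sq]
    have h2 : Units.mk0 (1 : F) one_ne_zero = 1 := Units.ext rfl
    rw [h2, S.h_one]
  m_T_m a ha := by
    have hneg : ∀ x : F, -x = x := fun x => by
      have := char2 S x
      linear_combination -this
    rw [hneg, hneg, one_pow]
    have ha' : (1 : F) / a ≠ 0 := div_ne_zero one_ne_zero ha
    rw [nu_ne S ha']
    obtain ⟨c, hc⟩ := exists_sq S (Units.mk0 a ha)⁻¹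
    have h1 := key_rel S c
    have h2 : ((c * c : Fˣ) : F) = 1 / a := by
      rw [hc, Units.val_inv_eq_inv_val, Units.val_mk0, one_div]
    have h3 : (((c * c)⁻¹ : Fˣ) : F) = a := by
      rw [hc, inv_inv, Units.val_mk0]
    rw [h2, h3] at h1
    have h4 : S.n1 * S.o 0 a * S.n1 = S.o 4 a := by
      have h5 := S.n1_o 0 a
      rw [Arc.n1_inv S, sub_zero] at h5
      exact h5
    rw [h4, h1]
    -- `o(1/a) n1 h((c²)⁻¹) o(1/a) = h(1/a) o(a) n1 o(1/a)`
    have h6 : (c * c)⁻¹ = Units.mk0 a ha := by rw [hc, inv_inv]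
    have h7 : Units.mk0 (1 / a) ha' = (Units.mk0 a ha)⁻¹ := Units.ext (by
      rw [Units.val_inv_eq_inv_val, Units.val_mk0, Units.val_mk0, one_div])
    rw [h6, h7]
    have h8 := Arc.n1_h S (Units.mk0 a ha) (Units.mk0 a ha)
    have h9 := S.h_o (Units.mk0 a ha)⁻¹ (Units.mk0 a ha)⁻¹ 0 a
    have h10 : ((chO σ 0 (Units.mk0 a ha)⁻¹ (Units.mk0 a ha)⁻¹ : Fˣ) : F) * a = 1 / a := by
      show (a⁻¹ * a⁻¹) * a = 1 / a
      field_simp
    rw [h10] at h9
    rw [← h9]
    have h11 : S.n1 * S.h (Units.mk0 a ha) (Units.mk0 a ha) = S.h (Units.mk0 a ha)⁻¹ (Units.mk0 a ha)⁻¹ * S.n1 := by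
      rw [← h8]
      group
    calc S.h (Units.mk0 a ha)⁻¹ (Units.mk0 a ha)⁻¹ * S.o 0 a * (S.h (Units.mk0 a ha)⁻¹ (Units.mk0 a ha)⁻¹)⁻¹ * S.n1 *
          (S.h (Units.mk0 a ha) (Units.mk0 a ha) *
            (S.h (Units.mk0 a ha)⁻¹ (Units.mk0 a ha)⁻¹ * S.o 0 a * (S.h (Units.mk0 a ha)⁻¹ (Units.mk0 a ha)⁻¹)⁻¹)) =
        S.h (Units.mk0 a ha)⁻¹ (Units.mk0 a ha)⁻¹ * S.o 0 a * (S.h (Units.mk0 a ha)⁻¹ (Units.mk0 a ha)⁻¹)⁻¹ *
          (S.n1 * S.h (Units.mk0 a ha) (Units.mk0 a ha)) *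
            (S.h (Units.mk0 a ha)⁻¹ (Units.mk0 a ha)⁻¹ * S.o 0 a * (S.h (Units.mk0 a ha)⁻¹ (Units.mk0 a ha)⁻¹)⁻¹) := by
          simp only [mul_assoc]
      _ = _ := by rw [h11]; group

variable [Finite F] [Finite G]

theorem nu_mem (r : F) : nu S r ∈ TM S := by
  by_cases h : r = 0
  · have : nu S r = 1 := dif_neg (fun h' => h' h)
    rw [this]
    exact one_mem _
  · rw [nu_ne S h]
    exact h_TM S _

theorem hom_mem (g : Matrix.SpecialLinearGroup (Fin 2) F) : (rel S).hom g ∈ S.LO := by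
  rw [Rel.hom_apply]
  have hT : ∀ t, S.o 0 t ∈ S.LO := fun t => mem_sup_left (S.mX1 t)
  have hν : ∀ r, nu S r ∈ S.LO := fun r => TM_le_LO S (nu_mem S r)
  by_cases h : g.1 1 0 = 0
  · rw [Phi_of_eq h]
    exact mul_mem (hν _) (hT _)
  · rw [Phi_of_ne h]
    exact mul_mem (mul_mem (mul_mem (hT _) (hν _)) S.n1_mem_LO) (hT _)

/-- the homomorphism is injective -/
theorem hom_inj : Function.Injective (rel S).hom := by
  rw [injective_iff_map_eq_one]
  intro g hg
  rw [Rel.hom_apply] at hg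
  by_cases h : g.1 1 0 = 0
  · rw [Phi_of_eq h] at hg
    have hd : g.1 0 0 * g.1 1 1 - g.1 0 1 * g.1 1 0 = 1 := by
      have := g.2
      rw [Matrix.det_fin_two] at this
      exact this
    rw [h, mul_zero, sub_zero] at hd
    have h0 : g.1 0 0 ≠ 0 := left_ne_zero_of_mul_eq_one hd
    rw [nu_ne S h0] at hg
    have h1 : S.h (Units.mk0 _ h0) (Units.mk0 _ h0) ∈ S.XZ 1 := by
      have : S.h (Units.mk0 _ h0) (Units.mk0 _ h0) = (S.o 0 (g.1 0 1 / g.1 0 0))⁻¹ := eq_inv_of_mul_eq_one_left hg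
      rw [this]
      exact inv_mem (S.mX1 _)
    have h2 := TM_inf_X1 S h1
    have h3 : g.1 0 0 = 1 := congrArg Units.val h2
    rw [h2, S.h_one, one_mul, h3, div_one] at hg
    have h4 := S.o_eq_one hg
    rw [h3, one_mul] at hd
    apply Subtype.ext
    ext i j
    fin_cases i <;> fin_cases j
    · exact h3
    · exact h4
    · exact h
    · exact hd
  · exfalso
    rw [Phi_of_ne h] at hg
    apply n1_not_mem S
    have hT : ∀ t, S.o 0 t ∈ BM S := fun t => mem_sup_right (S.mX1 t)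
    have hν : ∀ r, nu S r ∈ BM S := fun r => mem_sup_left (nu_mem S r)
    have e1 : S.n1 = (S.o 0 (g.1 0 0 / g.1 1 0) * nu S (1 / (1 * g.1 1 0)))⁻¹ *
        (S.o 0 (g.1 0 0 / g.1 1 0) * nu S (1 / (1 * g.1 1 0)) * S.n1 * S.o 0 (g.1 1 1 / g.1 1 0)) *
        (S.o 0 (g.1 1 1 / g.1 1 0))⁻¹ := by group
    rw [e1, hg]
    exact mul_mem (mul_mem (inv_mem (mul_mem (hT _) (hν _))) (one_mem _)) (inv_mem (hT _))

section Eight

variable (h8 : Nat.card F = 8)
include h8

theorem exists_nine : ∃ g : S.LO, orderOf g = 9 := by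
  have h2 : (2 : F) = 0 := S.two
  have hc : Nat.card Fˣ = 7 := by rw [Nat.card_units, h8]
  obtain ⟨c, hc1⟩ := exists_unit_of_card h8
  have hz : c ^ 7 = 1 := by rw [← hc]; exact pow_card_eq_one'
  obtain ⟨t, ht⟩ := exists_t h2 (z := (c : F)) (by rw [← Units.val_pow_eq_pow_val, hz, Units.val_one])
    (fun h => hc1 (Units.ext h))
  have ho : orderOf (gg t) = 9 := by
    have h9 : orderOf (gg t) ∣ 3 ^ 2 := orderOf_dvd_of_pow_eq_one (gg_nine h2 ht)
    obtain ⟨k, hk, hk'⟩ := (Nat.dvd_prime_pow (by norm_num : Nat.Prime 3)).1 h9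
    have h3 : ¬ orderOf (gg t) ∣ 3 := fun h => gg_three_ne h2 ht (orderOf_dvd_iff_pow_eq_one.1 h)
    interval_cases k
    · rw [hk'] at h3; norm_num at h3
    · rw [hk'] at h3; norm_num at h3
    · rw [hk']; norm_num
  refine ⟨⟨(rel S).hom (gg t), hom_mem S _⟩, ?_⟩
  rw [Subgroup.orderOf_mk, orderOf_injective _ (hom_inj S), ho]

theorem card_LO_eight : Nat.card S.LO = 504 := by
  rw [card_LO, Nat.card_units, h8]

theorem card_TM_eight : Nat.card ((TM S).subgroupOf S.LO) = 7 := by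
  rw [Nat.card_congr (Subgroup.subgroupOfEquivOfLe (TM_le_LO S)).toEquiv, card_TM, Nat.card_units, h8]

omit h8 in
theorem mod_list' : ∀ n ∈ Nat.divisors 504, n % 7 = 1 → n = 1 ∨ n = 8 ∨ n = 36 := by decide +kernel

theorem not_three : ¬ 3 ∣ Nat.card (normalizer (((TM S).subgroupOf S.LO : Subgroup S.LO) : Set S.LO)) := by
  intro h3
  have f7 : Fact (Nat.Prime 7) := ⟨by norm_num⟩
  set T : Subgroup S.LO := (TM S).subgroupOf S.LO with hT
  have hTc : Nat.card T = 7 := card_TM_eight S h8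
  have hi : ¬ 7 ∣ T.index := by
    intro h
    have h1 := T.card_mul_index
    rw [hTc, card_LO_eight S h8] at h1
    omega
  let P : Sylow 7 S.LO := (IsPGroup.of_card (n := 1) (G := T) (p := 7) (by rw [hTc, pow_one])).toSylow hi
  have h1 : (normalizer (T : Set S.LO)).index = Nat.card (Sylow 7 S.LO) := (Sylow.card_eq_index_normalizer P).symm
  have h2 : Nat.card (Sylow 7 S.LO) % 7 = 1 := card_sylow_modEq_one 7 S.LO
  have h4 := (normalizer (T : Set S.LO)).card_mul_index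
  rw [← h1] at h2
  rw [card_LO_eight S h8] at h4
  -- `n1` normalises `TM`
  have hn1 : nn S ∈ normalizer (T : Set S.LO) := by
    rw [mem_normalizer_iff]
    have key : ∀ x ∈ T, nn S * x * (nn S)⁻¹ ∈ T := by
      intro x hx
      rw [hT, mem_subgroupOf] at hx ⊢
      obtain ⟨c, hc⟩ := hx
      refine ⟨c⁻¹, ?_⟩
      rw [← Arc.n1_h S c c, hc]
      rfl
    intro x
    refine ⟨key x, fun hx => ?_⟩
    have h5 := key _ hx
    have h6 : nn S * nn S = 1 := Subtype.ext S.n1_sq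
    have e : nn S * (nn S * x * (nn S)⁻¹) * (nn S)⁻¹ = (nn S * nn S) * x * (nn S * nn S)⁻¹ := by group
    rw [e, h6, one_mul, inv_one, mul_one] at h5
    exact h5
  have h2d : 2 ∣ Nat.card (normalizer (T : Set S.LO)) := by
    have h5 : orderOf (⟨nn S, hn1⟩ : normalizer (T : Set S.LO)) = 2 := by
      rw [Subgroup.orderOf_mk]
      refine orderOf_eq_prime ?_ ?_
      · rw [pow_two]
        exact Subtype.ext S.n1_sq
      · intro h
        apply n1_not_mem S
        have : S.n1 = 1 := congrArg Subtype.val h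
        rw [this]
        exact one_mem _
    rw [← h5]
    exact _root_.orderOf_dvd_natCard _
  have h7 : (normalizer (T : Set S.LO)).index ∈ Nat.divisors 504 := by
    rw [Nat.mem_divisors]
    exact ⟨⟨_, by rw [← h4, mul_comm]⟩, by norm_num⟩
  rcases mod_list' _ h7 h2 with h | h | h
  · -- `TM` is normal
    have htop : normalizer (T : Set S.LO) = ⊤ := Subgroup.index_eq_one.1 h
    obtain ⟨c, hc⟩ := exists_unit_of_card h8
    have hx : (⟨S.o 0 1, mem_sup_left (S.mX1 1)⟩ : S.LO) ∈ normalizer (T : Set S.LO) := by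
      rw [htop]
      exact mem_top _
    have h5 := (mem_normalizer_iff.1 hx ⟨S.h c c, S.h_mem_LO c⟩).1 (by
      rw [hT]
      exact (mem_subgroupOf).2 (h_TM S c))
    rw [hT, mem_subgroupOf] at h5
    have h6 : S.o 0 1 * S.h c c * (S.o 0 1)⁻¹ ∈ TM S := h5
    have h8' : S.o 0 1 * S.h c c * (S.o 0 1)⁻¹ = (S.o 0 1 * (S.h c c * (S.o 0 1)⁻¹ * (S.h c c)⁻¹)) * S.h c c := by
      group
    have h9 : S.h c c * (S.o 0 1)⁻¹ * (S.h c c)⁻¹ ∈ S.XZ 1 := S.T_conj (TM_le_T S (h_TM S c)) 1 (inv_mem (S.mX1 1))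
    have h10 : S.o 0 1 * (S.h c c * (S.o 0 1)⁻¹ * (S.h c c)⁻¹) ∈ TM S := by
      have e : S.o 0 1 * (S.h c c * (S.o 0 1)⁻¹ * (S.h c c)⁻¹) = (S.o 0 1 * S.h c c * (S.o 0 1)⁻¹) * (S.h c c)⁻¹ := by
        group
      rw [e]
      exact mul_mem h6 (inv_mem (h_TM S c))
    obtain ⟨c', hc'⟩ := h10
    have h11 : c' = 1 := TM_inf_X1 S (by
      rw [hc']
      exact mul_mem (S.mX1 1) h9)
    rw [h11, S.h_one] at hc'
    -- `h c c` centralises `o 0 1`
    have h12 : S.h c c * S.o 0 1 * (S.h c c)⁻¹ = S.o 0 1 := by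
      have h13 : S.h c c * (S.o 0 1)⁻¹ * (S.h c c)⁻¹ = (S.o 0 1)⁻¹ := eq_inv_of_mul_eq_one_right hc'.symm
      rw [o_inv S] at h13
      exact h13
    rw [S.h_o, mul_one] at h12
    have h14 := S.injO 0 h12
    exact hc (SylU.unit_sq S (Units.ext h14))
  · rw [h] at h4
    omega
  · rw [h] at h4
    omega

/-- **task C2** -/
theorem odd_HO (hR : S.R.p = 2) {D : Subgroup G} (hD : D ≤ S.HO) (hodd : Odd (Nat.card D)) {d : G} (hd : d ∈ S.HO)
    (h3 : orderOf d = 3) (hn : ∀ a ∈ D, d * a * d⁻¹ ∈ D) (hdD : d ∉ D) : D = ⊥ := by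
  have hF := exists_unit_of_card h8
  obtain ⟨ρ, hρ⟩ := exists_proj (C := S.HO) (L := S.LO) (N := S.NO) le_sup_left (fun c hc n hn => Card.NO_norm S hc hn)
    (fun c hc => HO_split S hc) (fun x hx hx' => LO_inf_NO S hF hx hx')
  have hNO : IsPGroup 2 S.NO := (two_J S hR (a := 2) (b := 8) (by norm_num)).to_le inf_le_left
  -- elements of odd order in the kernel
  have hker : ∀ w : S.HO, Odd (orderOf (w : G)) → ρ w = 1 → w = 1 := by
    intro w hw h1
    have h4 := hρ w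
    rw [h1, Subgroup.coe_one, inv_one, one_mul] at h4
    obtain ⟨k, hk⟩ := (IsPGroup.iff_orderOf.1 hNO) ⟨w, h4⟩
    rw [Subgroup.orderOf_mk] at hk
    rw [hk] at hw
    have hk0 : k = 0 := by
      by_contra hk0
      exact (Nat.not_odd_iff_even.2 ((Nat.even_pow' hk0).2 (by decide))) hw
    rw [hk0, pow_zero, orderOf_eq_one_iff] at hk
    exact Subtype.ext hk
  obtain ⟨g, hg⟩ := exists_nine S h8
  set D' : Subgroup S.LO := (D.subgroupOf S.HO).map ρ with hD'
  have hDc : Nat.card (D.subgroupOf S.HO) = Nat.card D := Nat.card_congr (Subgroup.subgroupOfEquivOfLe hD).toEquiv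
  have hodd' : Odd (Nat.card D') := by
    refine Odd.of_dvd_nat hodd ?_
    rw [← hDc]
    exact Subgroup.card_map_dvd _ _
  have hd' : orderOf (ρ ⟨d, hd⟩) = 3 := by
    refine orderOf_eq_prime ?_ ?_
    · rw [← map_pow]
      have : (⟨d, hd⟩ : S.HO) ^ 3 = 1 := Subtype.ext (by
        show d ^ 3 = 1
        rw [← h3]
        exact pow_orderOf_eq_one _)
      rw [this, map_one]
    · intro h
      have h4 := hker ⟨d, hd⟩ (by
        show Odd (orderOf d)
        rw [h3]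
        decide) h
      have h5 : d = 1 := congrArg Subtype.val h4
      rw [h5, orderOf_one] at h3
      omega
  have hor : ∀ a ∈ D, Odd (orderOf a) := by
    intro a ha
    refine Odd.of_dvd_nat hodd ?_
    rw [← Subgroup.orderOf_mk _ ha]
    exact _root_.orderOf_dvd_natCard _
  -- `d` is not in `D NO`
  have hdD' : ρ ⟨d, hd⟩ ∉ D' := by
    rintro ⟨a, ha, hda⟩
    have ha' : (a : G) ∈ D := ha
    -- `c = a⁻¹ d ∈ D ⟨d⟩`, in the kernel
    have hle : zpowers d ≤ normalizer (D : Set G) := by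
      rw [zpowers_le, mem_normalizer_iff]
      have h1 : ∀ n : ℕ, ∀ a ∈ D, d ^ n * a * (d ^ n)⁻¹ ∈ D := by
        intro n
        induction n with
        | zero => intro a ha; simpa using ha
        | succ n ih =>
          intro a ha
          have e : d ^ (n + 1) * a * (d ^ (n + 1))⁻¹ = d * (d ^ n * a * (d ^ n)⁻¹) * d⁻¹ := by
            rw [pow_succ']; group
          rw [e]
          exact hn _ (ih a ha)
      intro a
      refine ⟨hn a, fun ha => ?_⟩
      have h2 := h1 2 _ ha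
      have h5 : d ^ 2 * d = 1 := by
        have := pow_orderOf_eq_one d
        rwa [h3, pow_succ] at this
      have e : d ^ 2 * (d * a * d⁻¹) * (d ^ 2)⁻¹ = (d ^ 2 * d) * a * (d ^ 2 * d)⁻¹ := by group
      rw [e, h5, one_mul, inv_one, mul_one] at h2
      exact h2
    have hc := Cfsg.Agent.SmallSimple.S1000.ThinCube.card_sup_dvd (zpowers d) D hle
    rw [Nat.card_zpowers, h3] at hc
    have hodd2 : Odd (Nat.card (zpowers d ⊔ D : Subgroup G)) := by
      refine Odd.of_dvd_nat ?_ hc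
      exact Odd.mul (by decide) hodd
    have hm : (a : G)⁻¹ * d ∈ (zpowers d ⊔ D : Subgroup G) :=
      mul_mem (inv_mem (mem_sup_right ha')) (mem_sup_left (mem_zpowers d))
    have h6 := hker (a⁻¹ * ⟨d, hd⟩) (by
      refine Odd.of_dvd_nat hodd2 ?_
      have : (((a⁻¹ * ⟨d, hd⟩ : S.HO)) : G) = (a : G)⁻¹ * d := rfl
      rw [this, ← Subgroup.orderOf_mk _ hm]
      exact _root_.orderOf_dvd_natCard _) (by
      rw [map_mul, map_inv, hda, inv_mul_cancel])
    have h7 : (a : G)⁻¹ * d = 1 := congrArg Subtype.val h6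
    apply hdD
    rw [← inv_mul_eq_one.1 h7]
    exact ha'
  have h9 := eq_bot_of (card_LO_eight S h8) hg (card_TM_eight S h8) (not_three S h8) hodd' hd' (by
    rintro _ ⟨a, ha, rfl⟩
    refine ⟨⟨d, hd⟩ * a * ⟨d, hd⟩⁻¹, ?_, by rw [map_mul, map_mul, map_inv]⟩
    exact hn _ ha) hdD'
  rw [eq_bot_iff]
  intro a ha
  have h10 : ρ ⟨a, hD ha⟩ ∈ D' := ⟨⟨a, hD ha⟩, ha, rfl⟩
  rw [h9, mem_bot] at h10
  have h11 := hker ⟨a, hD ha⟩ (hor a ha) h10
  exact mem_bot.2 (congrArg Subtype.val h11)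

end Eight

end Cfsg.Agent.H496.TwEight.HOFacts
end
end

-- part: H496/TwEight/PLFacts
section
set_option linter.all false
open scoped Cfsg.Agent.FastGrp

/-!
# Elements of order `13` of `PL = C(Z_4)` in `²F₄(8)` (helper496, for helper857, S5936)

* `PL_syl` (task C3), `PL_cent` (task C4).
-/

set_option autoImplicit false
set_option linter.unusedSectionVars false

namespace Cfsg.Agent.H496.TwEight.PLFacts

open Subgroup
open Cfsg.Agent.SplitTwo Cfsg.Agent.SplitTwo.ZS Cfsg.Agent.TitsThree.RankTwoZ Cfsg.Agent.SplitTwo.RootSysZ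
open Cfsg.Agent.KFacts.TwF4 Cfsg.Agent.KFacts.TwF4.Arc Cfsg.Agent.KFacts.TwF4.Irr Cfsg.Agent.KFacts.TwF4.Perf
open Cfsg.Agent.KFacts.TwF4.Inv
open Cfsg.Agent.H496.TwFRad.Levi Cfsg.Agent.H496.TwEight.Card Cfsg.Agent.H496.TwEight.Proj

universe u

variable {F : Type*} [Field F] {σ : F →+* F} {G : Type u} [Group G] (S : Full σ G)
variable [Finite F] [Finite G]

/-- the involutions of `L4` are conjugate in `L4` to elements of `Z_8` -/
theorem inv_L4 (hR : S.R.p = 2) (hF : ∃ d : Fˣ, d ≠ 1) (hev : Even (Nat.card F)) {i : G} (hi : i ∈ L4 S)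
    (hi2 : i * i = 1) : ∃ g ∈ L4 S, ∃ u : F, g * i * g⁻¹ = S.e 4 0 u := by
  classical
  have : Fact (Nat.Prime 2) := ⟨Nat.prime_two⟩
  have hP : IsPGroup 2 ↥((S.XZ 8).subgroupOf (L4 S)) := (two_X S hR 8).comap_subtype
  have hidx : ((S.XZ 8).subgroupOf (L4 S)).index = (Nat.card F - 1) * (Nat.card F * Nat.card F + 1) := by
    have h1 := ((S.XZ 8).subgroupOf (L4 S)).card_mul_index
    rw [card_L4 S hF] at h1
    have h2 : Nat.card ↥((S.XZ 8).subgroupOf (L4 S)) = Nat.card F * Nat.card F := by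
      rw [Nat.card_congr (Subgroup.subgroupOfEquivOfLe (X8_L4 S)).toEquiv, Cfsg.Agent.H496.SpTwF.Sq.card_X8]
    rw [h2, mul_assoc (Nat.card F * Nat.card F)] at h1
    exact Nat.eq_of_mul_eq_mul_left (mul_pos Nat.card_pos Nat.card_pos) h1
  have hnd : ¬ 2 ∣ ((S.XZ 8).subgroupOf (L4 S)).index := by
    rw [hidx, Nat.Prime.dvd_mul Nat.prime_two]
    have hpos : 0 < Nat.card F := Nat.card_pos
    obtain ⟨k, hk⟩ := hev
    rintro (h | h)
    · omega
    · rw [hk] at h
      have h3 : 2 ∣ (k + k) * (k + k) := ⟨k * (k + k), by ring⟩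
      omega
  let P : Sylow 2 (L4 S) := hP.toSylow hnd
  have hz : IsPGroup 2 (Subgroup.zpowers (⟨i, hi⟩ : L4 S)) := by
    rw [IsPGroup.iff_card]
    have h1 : orderOf (⟨i, hi⟩ : L4 S) ∣ 2 ^ 1 := orderOf_dvd_of_pow_eq_one (Subtype.ext (by
      show i ^ (2 ^ 1) = 1
      rw [pow_one, pow_two, hi2]))
    obtain ⟨k, -, hk⟩ := (Nat.dvd_prime_pow Nat.prime_two).1 h1
    exact ⟨k, by rw [Nat.card_zpowers, hk]⟩
  obtain ⟨R, hR'⟩ := hz.exists_le_sylow
  obtain ⟨g, hg⟩ := MulAction.exists_smul_eq (L4 S) R P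
  have h1 : g * ⟨i, hi⟩ * g⁻¹ ∈ (P : Subgroup (L4 S)) := by
    rw [← hg, Sylow.coe_subgroup_smul]
    exact ⟨_, hR' (Subgroup.mem_zpowers _), rfl⟩
  have h2 : (g : G) * i * (g : G)⁻¹ ∈ S.XZ 8 := h1
  obtain ⟨r, u, hru⟩ := (mem_X8 S).1 h2
  have h3 : S.e 4 r u * S.e 4 r u = 1 := by
    rw [hru]
    calc (g : G) * i * (g : G)⁻¹ * ((g : G) * i * (g : G)⁻¹) = (g : G) * (i * i) * (g : G)⁻¹ := by group
      _ = 1 := by rw [hi2]; group
  rw [e_sq S] at h3
  have h4 : r * σ r = 0 := (S.e_eq_one h3).2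
  have h5 : r = 0 := by
    rcases mul_eq_zero.1 h4 with h | h
    · exact h
    · exact (map_eq_zero σ).1 h
  subst h5
  exact ⟨g, g.2, u, hru.symm⟩

/-- elements of order prime to `q - 1` of `L4` do not commute with involutions of `L4` -/
theorem L4_no_inv (hR : S.R.p = 2) (hF : ∃ d : Fˣ, d ≠ 1) (hev : Even (Nat.card F)) {p : ℕ} (hp : p.Prime) (hp2 : p ≠ 2)
    (hpq : ¬ p ∣ Nat.card F - 1) {y t : G} (hy : y ∈ L4 S) (ht : t ∈ L4 S) (hyp : orderOf y = p) (ht2 : t * t = 1)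
    (ht1 : t ≠ 1) : y * t ≠ t * y := by
  intro hc
  obtain ⟨g, hg, u, hu⟩ := inv_L4 S hR hF hev ht ht2
  have hz1 : S.e 4 0 u ≠ 1 := by
    rw [← hu]
    intro h
    apply ht1
    have e1 : t = g⁻¹ * (g * t * g⁻¹) * g := by group
    rw [e1, h]
    group
  have hy1 : g * y * g⁻¹ ∈ L4 S := mul_mem (mul_mem hg hy) (inv_mem hg)
  have hyo : orderOf (g * y * g⁻¹) = p := by
    rw [← hyp]
    exact (MulAut.conj g).orderOf_eq y
  have hc1 : (g * y * g⁻¹) * S.e 4 0 u = S.e 4 0 u * (g * y * g⁻¹) := by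
    rw [← hu]
    calc g * y * g⁻¹ * (g * t * g⁻¹) = g * (y * t) * g⁻¹ := by group
      _ = g * (t * y) * g⁻¹ := by rw [hc]
      _ = _ := by group
  have hz8 : S.e 4 0 u ∈ S.XZ 8 := (mem_X8 S).2 ⟨0, u, rfl⟩
  have hU : ∀ {x : G}, x ∈ S.XZ 8 → x ∈ J S.XZ 1 8 := fun hx => mem_J hx (by norm_num) le_rfl
  rcases form_L4 S hF hy1 with ⟨x, hx, t', ht', h⟩ | ⟨x, hx, t', ht', w, hw, h⟩
  · have hm : g * y * g⁻¹ ∈ (J S.XZ 1 8 ⊔ S.T : Subgroup G) := by
      rw [h]
      exact mul_mem (mem_sup_left (hU hx)) (mem_sup_right (S.Tk_le 4 ht'))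
    refine hpq (Cfsg.Agent.H127.TwFInv.prime_BT S hR hp hp2 ?_)
    rw [← hyo, ← Subgroup.orderOf_mk _ hm]
    exact orderOf_dvd_natCard _
  · rw [h] at hc1
    have h4 : (S.e 4 0 u * x) * (t' * S.n2) * w = x * (t' * S.n2) * (w * S.e 4 0 u) := by
      calc (S.e 4 0 u * x) * (t' * S.n2) * w = S.e 4 0 u * (x * (t' * S.n2) * w) := by group
        _ = x * (t' * S.n2) * w * S.e 4 0 u := hc1.symm
        _ = _ := by group
    obtain ⟨k1, -, -⟩ := S.form_unique (hU (mul_mem hz8 hx)) (S.Tk_le 4 ht') hw (hU hx) (S.Tk_le 4 ht')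
      (mul_mem hw hz8) h4
    exact hz1 (mul_eq_right.1 k1)

section Eight

variable (h8 : Nat.card F = 8)
include h8

theorem card_L4_eight : Nat.card (L4 S) = 29120 := by
  rw [card_L4 S (exists_unit_of_card h8), h8]

/-- **task C4, inside `L4`** -/
theorem L4_cent (hR : S.R.p = 2) {y : L4 S} (hy : orderOf y = 13) :
    Nat.card (centralizer ({y} : Set (L4 S))) = 13 := by
  refine card_cent (card_L4_eight S h8) hy fun h2 => ?_
  have : Fact (Nat.Prime 2) := ⟨Nat.prime_two⟩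
  obtain ⟨t, ht⟩ := exists_prime_orderOf_dvd_card' 2 h2
  have hto : orderOf ((t : L4 S) : G) = 2 := by rw [orderOf_coe, orderOf_coe, ht]
  refine L4_no_inv S hR (exists_unit_of_card h8) (by rw [h8]; decide) (p := 13) (by norm_num) (by norm_num)
    (by rw [h8]; norm_num) (y := y) (t := (t : L4 S)) y.2 (t : L4 S).2 (by rw [orderOf_coe, hy]) ?_ ?_ ?_
  · rw [← pow_two, ← hto]
    exact pow_orderOf_eq_one _
  · intro h
    rw [h, orderOf_one] at hto
    omega
  · exact congrArg Subtype.val (mem_centralizer_singleton_iff.1 t.2).symm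

/-- **task C3** -/
theorem PL_syl {y y' : G} (hy : y ∈ S.PL) (hy' : y' ∈ S.PL) (h : orderOf y = 13) (h' : orderOf y' = 13) :
    ∃ g ∈ S.PL, ∃ k : ℕ, g * y * g⁻¹ = y' ^ k := by
  have : Fact (Nat.Prime 13) := ⟨by norm_num⟩
  refine syl_conj (p := 13) ?_ hy hy' h h'
  rw [card_PL S h8]
  norm_num

/-- **task C4** -/
theorem PL_cent (hR : S.R.p = 2) {y u : G} (hy : y ∈ S.PL) (hu : u ∈ S.PL) (h13 : orderOf y = 13)
    (hp : (orderOf u).Prime) (h2 : orderOf u ≠ 2) (hc : y * u = u * y) : orderOf u = 13 := by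
  have hF := exists_unit_of_card h8
  obtain ⟨ρ, hρ⟩ := exists_proj (C := S.PL) (L := L4 S) (N := S.Q) (L4_le_PL S) (fun c hc n hn => Q_norm S hc hn)
    (fun c hc => PL_split S hc) (fun x hx hx' => L4_inf_Q S hF hx hx')
  -- elements of prime order `r ≠ 2` keep their order
  have key : ∀ {r : ℕ} (w : S.PL), r.Prime → r ≠ 2 → orderOf (w : G) = r → orderOf (ρ w) = r := by
    intro r w hr hr2 hw
    have : Fact r.Prime := ⟨hr⟩
    refine orderOf_eq_prime ?_ ?_
    · rw [← map_pow]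
      have : w ^ r = 1 := Subtype.ext (by
        show (w : G) ^ r = 1
        rw [← hw]
        exact pow_orderOf_eq_one _)
      rw [this, map_one]
    · intro h1
      have h3 := hρ w
      rw [h1, Subgroup.coe_one, inv_one, one_mul] at h3
      have h4 : IsPGroup 2 S.Q := two_Q S hR
      obtain ⟨k, hk⟩ := (IsPGroup.iff_orderOf.1 h4) ⟨w, h3⟩
      rw [Subgroup.orderOf_mk, hw] at hk
      have h5 : r ∣ 2 ^ k := by rw [← hk]
      exact hr2 ((Nat.prime_dvd_prime_iff_eq hr Nat.prime_two).1 (hr.dvd_of_dvd_pow h5))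
  have hy1 := key ⟨y, hy⟩ (r := 13) (by norm_num) (by norm_num) h13
  have hu1 := key ⟨u, hu⟩ hp h2 rfl
  have hcc : ρ ⟨u, hu⟩ ∈ centralizer ({ρ ⟨y, hy⟩} : Set (L4 S)) := by
    rw [mem_centralizer_singleton_iff, ← map_mul, ← map_mul]
    congr 1
    exact Subtype.ext hc.symm
  have h5 : orderOf (ρ ⟨u, hu⟩) ∣ Nat.card (centralizer ({ρ ⟨y, hy⟩} : Set (L4 S))) := by
    rw [← Subgroup.orderOf_mk _ hcc]
    exact orderOf_dvd_natCard _
  rw [L4_cent S h8 hR hy1, hu1] at h5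
  exact (Nat.prime_dvd_prime_iff_eq hp (by norm_num)).1 h5

end Eight

end Cfsg.Agent.H496.TwEight.PLFacts
end
end
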